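import Mathlib.Algebra.Homology.TotalComplex
import Mathlib.Algebra.Homology.HomologicalComplexLimits
import Mathlib.Algebra.Homology.Additive
import Mathlib.Algebra.Homology.ComplexShapeSigns
import Mathlib.CategoryTheory.Limits.Preserves.Basic

/-!
# Total complexes commute with colimits (G6c, node 6c5)

A system of double complexes, a cocone which is a colimit in every bidegree: the total complexes form a system with a
colimit cocone.  Applied to `j ↦ T_j(K)`, `T : J ⥤ (D ⥤ CochainComplex B ℤ)` (the cobar functors of a directed system of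
finite free comodules), `K` a complex in `D`.
-/

set_option autoImplicit false
set_option linter.unusedSectionVars false

open CategoryTheory CategoryTheory.Limits HomologicalComplex₂ ComplexShape

namespace Groth.Agent.ResProp.EF.K309

universe w w' v v' u u'

section Tot

variable {J : Type w} [Category.{w'} J] {B : Type u} [Category.{v} B] [Preadditive B]
  (F : J ⥤ CochainComplex (CochainComplex B ℤ) ℤ) [∀ j, HomologicalComplex₂.HasTotal (F.obj j) (up ℤ)]

/-- the total complexes of a system of double complexes -/
noncomputable def totF : J ⥤ CochainComplex B ℤ where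
  obj j := HomologicalComplex₂.total (F.obj j) (up ℤ)
  map φ := HomologicalComplex₂.total.map (F.map φ) (up ℤ)
  map_id j := by rw [F.map_id]; exact HomologicalComplex₂.total.map_id _ _
  map_comp φ ψ := by rw [F.map_comp]; exact HomologicalComplex₂.total.map_comp _ _ _

variable {F} (c : Cocone F)

/-- a leg of a cocone -/
abbrev leg (j : J) : F.obj j ⟶ c.pt := c.ι.app j

theorem map_leg {i j : J} (φ : i ⟶ j) : F.map φ ≫ leg c j = leg c i := c.w φ

variable [HomologicalComplex₂.HasTotal c.pt (up ℤ)]

/-- the total complex of a cocone -/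
noncomputable def totCocone : Cocone (totF F) where
  pt := HomologicalComplex₂.total c.pt (up ℤ)
  ι :=
    { app := fun j => HomologicalComplex₂.total.map (leg c j) (up ℤ)
      naturality := fun i j φ => by
        change HomologicalComplex₂.total.map (F.map φ) (up ℤ) ≫ HomologicalComplex₂.total.map (leg c j) (up ℤ) =
          HomologicalComplex₂.total.map (leg c i) (up ℤ) ≫ 𝟙 _
        rw [Category.comp_id, ← HomologicalComplex₂.total.map_comp, map_leg] }

/-- the colimit property of a bidegree, unbundled -/
theorem leg_eq {p q : ℤ} (hc : IsColimit ((HomologicalComplex.eval (CochainComplex B ℤ) (up ℤ) p ⋙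
      HomologicalComplex.eval B (up ℤ) q).mapCocone c)) {Y : B} (g : ∀ j : J, ((F.obj j).X p).X q ⟶ Y)
    (hg : ∀ (i j : J) (φ : i ⟶ j), ((F.map φ).f p).f q ≫ g j = g i) :
    ∃ m : (c.pt.X p).X q ⟶ Y, ∀ j, ((leg c j).f p).f q ≫ m = g j :=
  ⟨hc.desc { pt := Y, ι := { app := g, naturality := fun i j φ => (hg i j φ).trans (Category.comp_id _).symm } },
    fun j => hc.fac _ j⟩

theorem tot_hom_ext
    (hc : ∀ p q : ℤ, IsColimit ((HomologicalComplex.eval (CochainComplex B ℤ) (up ℤ) p ⋙
      HomologicalComplex.eval B (up ℤ) q).mapCocone c)) (n : ℤ) {Y : B}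
    (m m' : (HomologicalComplex₂.total c.pt (up ℤ)).X n ⟶ Y)
    (h : ∀ j, (HomologicalComplex₂.total.map (leg c j) (up ℤ)).f n ≫ m =
      (HomologicalComplex₂.total.map (leg c j) (up ℤ)).f n ≫ m') : m = m' := by
  refine HomologicalComplex₂.total.hom_ext _ fun p q hpq => ?_
  refine (hc p q).hom_ext fun j => ?_
  change ((leg c j).f p).f q ≫ HomologicalComplex₂.ιTotal c.pt (up ℤ) p q n hpq ≫ m =
      ((leg c j).f p).f q ≫ HomologicalComplex₂.ιTotal c.pt (up ℤ) p q n hpq ≫ m'
  rw [← HomologicalComplex₂.ιTotal_map_assoc, ← HomologicalComplex₂.ιTotal_map_assoc, h]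

/-- **total complexes commute with colimits** -/
noncomputable def isColimitTot
    (hc : ∀ p q : ℤ, IsColimit ((HomologicalComplex.eval (CochainComplex B ℤ) (up ℤ) p ⋙
      HomologicalComplex.eval B (up ℤ) q).mapCocone c)) : IsColimit (totCocone c) := by
  refine HomologicalComplex.isColimitOfEval _ _ fun n => Classical.choice ?_
  have key : ∀ s : Cocone (totF F ⋙ HomologicalComplex.eval B (up ℤ) n),
      ∃ m : (HomologicalComplex₂.total c.pt (up ℤ)).X n ⟶ s.pt,
        ∀ j, (HomologicalComplex₂.total.map (leg c j) (up ℤ)).f n ≫ m = s.ι.app j := by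
    intro s
    let g : ∀ j : J, (HomologicalComplex₂.total (F.obj j) (up ℤ)).X n ⟶ s.pt := fun j => s.ι.app j
    have hg : ∀ (i j : J) (φ : i ⟶ j), (HomologicalComplex₂.total.map (F.map φ) (up ℤ)).f n ≫ g j = g i :=
      fun i j φ => s.w φ
    choose m hm using fun (p q : ℤ) (h : ComplexShape.π (up ℤ) (up ℤ) (up ℤ) (p, q) = n) =>
      leg_eq c (hc p q) (fun j => HomologicalComplex₂.ιTotal (F.obj j) (up ℤ) p q n h ≫ g j) (fun i j φ => by
        rw [← hg i j φ, HomologicalComplex₂.ιTotal_map_assoc])
    refine ⟨HomologicalComplex₂.totalDesc c.pt fun p q h => m p q h, fun j => ?_⟩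
    change _ = g j
    refine HomologicalComplex₂.total.hom_ext _ fun p q h => ?_
    rw [HomologicalComplex₂.ιTotal_map_assoc, HomologicalComplex₂.ι_totalDesc]
    exact hm p q h j
  refine ⟨{ desc := fun s => (key s).choose, fac := fun s j => (key s).choose_spec j, uniq := fun s m hm => ?_ }⟩
  exact tot_hom_ext c hc n m (key s).choose fun j => (hm j).trans ((key s).choose_spec j).symm

end Tot

section Sys

variable {J : Type w} [Category.{w'} J] {D : Type u'} [Category.{v'} D] [Preadditive D]
  {B : Type u} [Category.{v} B] [Preadditive B] [HasZeroObject B]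
  (T : J ⥤ D ⥤ CochainComplex B ℤ) [∀ j, (T.obj j).PreservesZeroMorphisms] (K : CochainComplex D ℤ)

/-- the system of double complexes `T_j(K)` -/
@[simps]
noncomputable def dcF : J ⥤ CochainComplex (CochainComplex B ℤ) ℤ where
  obj j := ((T.obj j).mapHomologicalComplex (up ℤ)).obj K
  map φ := (NatTrans.mapHomologicalComplex (T.map φ) (up ℤ)).app K
  map_id j := by
    ext p : 1
    change (T.map (𝟙 j)).app (K.X p) = 𝟙 _
    rw [T.map_id]
    rfl
  map_comp φ ψ := by
    ext p : 1
    change (T.map (φ ≫ ψ)).app (K.X p) = (T.map φ).app (K.X p) ≫ (T.map ψ).app (K.X p)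
    rw [T.map_comp]
    rfl

variable (To : D ⥤ CochainComplex B ℤ) [To.PreservesZeroMorphisms] (l : T ⟶ (Functor.const J).obj To)

/-- the cocone of functors -/
@[simps]
def fCocone : Cocone T where
  pt := To
  ι := l

/-- a leg of the cocone of functors -/
abbrev legT (j : J) : T.obj j ⟶ To := l.app j

/-- the cocone of double complexes -/
@[simps]
noncomputable def dcCocone : Cocone (dcF T K) where
  pt := (To.mapHomologicalComplex (up ℤ)).obj K
  ι :=
    { app := fun j => (NatTrans.mapHomologicalComplex (legT T To l j) (up ℤ)).app K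
      naturality := fun i j φ => by
        ext p : 1
        change (T.map φ).app (K.X p) ≫ (legT T To l j).app (K.X p) = (legT T To l i).app (K.X p) ≫ 𝟙 _
        rw [Category.comp_id, ← NatTrans.comp_app]
        exact congrArg (fun f => NatTrans.app f (K.X p)) ((l.naturality φ).trans (Category.comp_id _)) }

variable [∀ j, HomologicalComplex₂.HasTotal ((dcF T K).obj j) (up ℤ)]
  [HomologicalComplex₂.HasTotal (dcCocone T K To l).pt (up ℤ)]

/-- the system of total complexes `Tot T_j(K)` -/
noncomputable abbrev sysTot : J ⥤ CochainComplex B ℤ := totF (dcF T K)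

/-- the cocone of total complexes -/
noncomputable abbrev sysCocone : Cocone (sysTot T K) := totCocone (dcCocone T K To l)

/-- the cocone of total complexes is a colimit if `(T_j X)^n → (T_∞ X)^n` is one for all `X`, `n` -/
noncomputable def isColimitSys
    (hc : ∀ (X : D) (n : ℤ), IsColimit ((((evaluation D (CochainComplex B ℤ)).obj X) ⋙
      HomologicalComplex.eval B (up ℤ) n).mapCocone (fCocone T To l))) : IsColimit (sysCocone T K To l) :=
  isColimitTot _ fun p q => by
    have h := hc (K.X p) q
    refine ⟨fun s => h.desc ⟨s.pt, ⟨fun j => s.ι.app j, fun i j φ => s.ι.naturality φ⟩⟩, fun s j => h.fac _ j,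
      fun s m hm => h.uniq ⟨s.pt, ⟨fun j => s.ι.app j, fun i j φ => s.ι.naturality φ⟩⟩ m hm⟩

end Sys

end Groth.Agent.ResProp.EF.K309
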