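import Groth.Agent.ResProp.EF.K496.CobAbs
import Groth.Agent.ResProp.EF.K309.TotColim

/-!
# The cobar complex commutes with colimits; directed systems of cobar complexes (G6c, [DIR])

* `preservesColimitsOfShape_Cob`: `U.Cob` (K496) preserves the colimits which `G` preserves.
* `W : J ⥤ (G.Coalgebra ⥤ G.Coalgebra)` (`F_j ⊗ -`), a cocone `l` to `Wo` (`O ⊗ -`) with `W_j M → Wo M` a colimit in `C` for
  all coalgebras `M`; `K` a complex of coalgebras: `cobSys`, `cobSysCocone`, `isColimitCobSys`: the total complexes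
  `Tot Cob(W_j K)` have the colimit `Tot Cob(Wo K)`.
-/

set_option autoImplicit false

noncomputable section

open CategoryTheory CategoryTheory.Limits

namespace Groth.Agent.ResProp.EF.K309

open Groth.Agent.ResProp.EF.K496

universe v v' u u' w w'

variable {C : Type u} [Category.{v} C] {G : Comonad C} (U : CUnit G)

section Pres

variable {J : Type w} [Category.{w'} J]

instance preservesColimitsOfShape_pw [PreservesColimitsOfShape J G.toFunctor] (n : ℕ) :
    PreservesColimitsOfShape J (pwFunctor G n) := by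
  induction n with
  | zero =>
    have e : 𝟭 C ≅ pwFunctor G 0 := NatIso.ofComponents (fun _ => Iso.refl _) fun f => by
      change f ≫ 𝟙 _ = 𝟙 _ ≫ f
      simp
    exact preservesColimitsOfShape_of_natIso e
  | succ n ih =>
    have e : pwFunctor G n ⋙ G.toFunctor ≅ pwFunctor G (n + 1) := NatIso.ofComponents (fun _ => Iso.refl _) fun f => by
      change G.map (pwMap G f n) ≫ 𝟙 _ = 𝟙 _ ≫ G.map (pwMap G f n)
      simp
    exact preservesColimitsOfShape_of_natIso e

variable [Preadditive C] [HasZeroObject C] [G.toFunctor.Additive]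

/-- the terms of the cobar complex in degrees `≥ 0` -/
def cobEval (n : ℕ) : G.forget ⋙ pwFunctor G n ≅ U.Cob ⋙ HomologicalComplex.eval C (ComplexShape.up ℤ) (n : ℤ) :=
  NatIso.ofComponents (fun _ => Iso.refl _) fun f => by
    change pwMap G f.f n ≫ 𝟙 _ = 𝟙 _ ≫ pwMap G f.f n
    simp

theorem cobEval_neg (n : ℕ) :
    IsZero (U.Cob ⋙ HomologicalComplex.eval C (ComplexShape.up ℤ) (Int.negSucc n)) :=
  Functor.isZero _ fun M => U.isZero_Cob M _ (Int.negSucc_lt_zero n)

instance preservesColimitsOfShape_cobEval [HasColimitsOfShape J C] [PreservesColimitsOfShape J G.toFunctor] (n : ℤ) :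
    PreservesColimitsOfShape J (U.Cob ⋙ HomologicalComplex.eval C (ComplexShape.up ℤ) n) := by
  cases n with
  | ofNat n => exact preservesColimitsOfShape_of_natIso (cobEval U n)
  | negSucc n => exact Functor.preservesColimitsOfShape_of_isZero _ (cobEval_neg U n) _

/-- `Cob` preserves the colimits which `G` preserves -/
instance preservesColimitsOfShape_Cob [HasColimitsOfShape J C] [PreservesColimitsOfShape J G.toFunctor] :
    PreservesColimitsOfShape J U.Cob where
  preservesColimit :=
    ⟨fun hc => ⟨HomologicalComplex.isColimitOfEval _ _ fun n =>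
      isColimitOfPreserves (U.Cob ⋙ HomologicalComplex.eval C (ComplexShape.up ℤ) n) hc⟩⟩

end Pres

section Sys

variable {J : Type w} [Category.{w'} J] [Preadditive C] [HasZeroObject C] [G.toFunctor.Additive] [U.Cob.Additive]

variable (W : J ⥤ G.Coalgebra ⥤ G.Coalgebra) [∀ j, (W.obj j).Additive] (Wo : G.Coalgebra ⥤ G.Coalgebra) [Wo.Additive]
  (l : W ⟶ (Functor.const J).obj Wo)

/-- a leg of `l` -/
abbrev legW (j : J) : W.obj j ⟶ Wo := l.app j

/-- the system of functors `j ↦ Cob (W_j -)` -/
@[simps]
def cobW : J ⥤ G.Coalgebra ⥤ CochainComplex C ℤ where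
  obj j := W.obj j ⋙ U.Cob
  map φ := Functor.whiskerRight (W.map φ) U.Cob
  map_id j := by
    rw [W.map_id]
    exact Functor.whiskerRight_id' _
  map_comp φ ψ := by
    rw [W.map_comp]
    exact Functor.whiskerRight_comp _ _ _

/-- the cocone `Cob (W_j -) → Cob (Wo -)` -/
@[simps]
def cobWl : cobW U W ⟶ (Functor.const J).obj (Wo ⋙ U.Cob) where
  app j := Functor.whiskerRight (legW W Wo l j) U.Cob
  naturality i j φ := by
    change Functor.whiskerRight (W.map φ) U.Cob ≫ Functor.whiskerRight (legW W Wo l j) U.Cob =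
      Functor.whiskerRight (legW W Wo l i) U.Cob ≫ 𝟙 _
    rw [Category.comp_id, ← Functor.whiskerRight_comp]
    exact congrArg (fun f => Functor.whiskerRight f U.Cob) ((l.naturality φ).trans (Category.comp_id _))

instance (j : J) : ((cobW U W).obj j).Additive := inferInstanceAs (W.obj j ⋙ U.Cob).Additive

instance (j : J) : ((cobW U W).obj j).PreservesZeroMorphisms := inferInstance

variable (K : CochainComplex G.Coalgebra ℤ)
  [∀ j, HomologicalComplex₂.HasTotal ((dcF (cobW U W) K).obj j) (ComplexShape.up ℤ)]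
  [HomologicalComplex₂.HasTotal (dcCocone (cobW U W) K (Wo ⋙ U.Cob) (cobWl U W Wo l)).pt (ComplexShape.up ℤ)]

/-- the system `j ↦ Tot Cob(W_j K)` -/
abbrev cobSys : J ⥤ CochainComplex C ℤ := sysTot (cobW U W) K

/-- the cocone `Tot Cob(W_j K) → Tot Cob(Wo K)` -/
abbrev cobSysCocone : Cocone (cobSys U W K) := sysCocone (cobW U W) K (Wo ⋙ U.Cob) (cobWl U W Wo l)

variable [HasColimitsOfShape J C] [PreservesColimitsOfShape J G.toFunctor]

/-- **the cobar complexes of a system**: `Tot Cob(Wo K)` is the colimit of the `Tot Cob(W_j K)` if `Wo M` is the colimit of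
the `W_j M` for all coalgebras `M` -/
def isColimitCobSys
    (hl : ∀ M : G.Coalgebra, IsColimit (((evaluation G.Coalgebra G.Coalgebra).obj M).mapCocone (Cocone.mk Wo l))) :
    IsColimit (cobSysCocone U W Wo l K) :=
  isColimitSys _ _ _ _ fun M n => by
    have h := isColimitOfPreserves (U.Cob ⋙ HomologicalComplex.eval C (ComplexShape.up ℤ) n) (hl M)
    exact ⟨fun s => h.desc ⟨s.pt, ⟨fun j => s.ι.app j, fun i j φ => s.ι.naturality φ⟩⟩, fun s j => h.fac _ j,
      fun s m hm => h.uniq ⟨s.pt, ⟨fun j => s.ι.app j, fun i j φ => s.ι.naturality φ⟩⟩ m hm⟩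

end Sys

end Groth.Agent.ResProp.EF.K309
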