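import Groth.Agent.ResProp.EF.K5.Tw
import Groth.Agent.ResProp.EF.K755.Dir
import Groth.Agent.ResProp.EF.K309.CobColim
import Groth.Agent.ResProp.EF.K742.GOInst
import Groth.Agent.ResProp.EF.K741.ComodAb

/-!
# (I5): the system `F ↦ tw s F` on `(GO s O).Coalgebra` over `Comod A`
-/

set_option autoImplicit false
set_option linter.unusedSectionVars false

open CategoryTheory CategoryTheory.Limits Opposite EF56 TensorProduct Groth.Agent.ResProp.EF.K742

noncomputable section

namespace Groth.Agent.ResProp.EF.K309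

universe u

variable {k : Type u} [CommRing k] [IsNoetherianRing k] {A : NFᵒᵖ ⥤ CommRingCat.{u}} (s : KS k A)
  {O : Type u} [CommRing O] [Bialgebra k O] [Module.Flat k O]
  {V : Type u} [AddCommGroup V] [Module k V] (c : HopfRep.Comod k O V)

/-- the evaluation of coalgebras on the chart -/
abbrev usE : (GO s O).Coalgebra ⥤ ModuleCat.{u} (A.obj (op ⟨0⟩)) := (GO s O).forget ⋙ vst A

/-- the comparison on the chart, on pure tensors -/
theorem us_twMap {W W' : Type u} [AddCommGroup W] [Module k W] [AddCommGroup W'] [Module k W']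
    (F : HopfRep.Comod k O W) (F' : HopfRep.Comod k O W') (g : W →ₗ[k] W')
    (hg : ∀ w, F'.coact (g w) = g.rTensor O (F.coact w)) (M : (GO s O).Coalgebra) :
    (usE s).map ((K5.twMap s F F' g hg).app M) = K755.tenM (s.κ (op ⟨0⟩)) ((usE s).obj M) g := by
  apply ModuleCat.hom_ext
  refine TM.linearMap_ext (s.κ (op ⟨0⟩)) (M := M.A.obj.obj (op ⟨0⟩)) (W := W)
    (P := TM (s.κ (op ⟨0⟩)) (M.A.obj.obj (op ⟨0⟩)) W') fun m w => ?_
  exact K5.lv_twMap_tm s F F' g hg M (op ⟨0⟩) m w

/-- (I5) -/
def twSys : K755.TwSys c (s.κ (op ⟨0⟩)) (usE s (O := O)) where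
  tw F := K5.tw s F.co
  twO := K5.tw s c
  tmap {F G} h := K5.twMap s F.co G.co (Submodule.inclusion h) fun w =>
    LinearMap.congr_fun (SubC.inclusion_hom (F := F) (G := G) h) w
  tmap_refl F := K5.twMap_id s F.co _
  tmap_trans {F G H} h h' := by
    refine (K5.twMap_comp s F.co G.co H.co (Submodule.inclusion h) _ (Submodule.inclusion h') _ _).symm
  tO F := K5.twMap s F.co c F.1.subtype fun w => LinearMap.congr_fun (SubC.subtype_hom F) w
  tmap_tO {F G} h := by
    refine (K5.twMap_comp s F.co G.co c (Submodule.inclusion h) _ G.1.subtype _ _)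
  e M F := Iso.refl _
  eO M := Iso.refl _
  e_nat M {F G} h := (Category.comp_id _).trans ((us_twMap s F.co G.co (Submodule.inclusion h) _ M).trans
    (Category.id_comp _).symm)
  eO_nat M F := (Category.comp_id _).trans ((us_twMap s F.co c F.1.subtype _ M).trans (Category.id_comp _).symm)

section inst

variable [Fact (GR A)]

instance additive_W5 (F : SubC c) : ((twSys s c).W.obj F).Additive := inferInstanceAs (K5.tw s F.co).Additive

instance additive_twO5 : (twSys s c).twO.Additive := inferInstanceAs (K5.tw s c).Additive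

instance reflectsIsomorphisms_usE : (usE s (O := O)).ReflectsIsomorphisms := inferInstance

/-- **(I5)** for `K5.tw`: `twO M` is the colimit of the `tw F M` -/
theorem hl5 (M : (GO s O).Coalgebra) :
    Nonempty (IsColimit (((evaluation (GO s O).Coalgebra (GO s O).Coalgebra).obj M).mapCocone
      (Cocone.mk (twSys s c).twO (twSys s c).l))) :=
  ⟨(twSys s c).hl M⟩

end inst

end Groth.Agent.ResProp.EF.K309
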