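import Mathlib.Algebra.Homology.TotalComplex
import Mathlib.Algebra.Homology.ComplexShapeSigns
import Mathlib.CategoryTheory.Limits.Shapes.Products

/-!
# Total complexes exist when coproducts do (G6c)
-/

set_option autoImplicit false

open CategoryTheory CategoryTheory.Limits ComplexShape

namespace Groth.Agent.ResProp.EF.K309

universe w v u

/-- total complexes of `ℤ × ℤ`-graded double complexes exist if all `w`-small coproducts do -/
theorem hasTotal_of_hasCoproducts {B : Type u} [Category.{v} B] [Preadditive B] [HasCoproducts.{w} B]
    (K : CochainComplex (CochainComplex B ℤ) ℤ) : HomologicalComplex₂.HasTotal K (up ℤ) := by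
  have : HasCoproducts.{0} B := hasCoproducts_shrink.{0, w}
  intro n
  infer_instance

end Groth.Agent.ResProp.EF.K309
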