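import Groth.Prelude.Def_ComodSub
import Mathlib.LinearAlgebra.TensorProduct.Finiteness
import Mathlib.LinearAlgebra.TensorProduct.RightExactness
import Mathlib.RingTheory.Flat.Basic
import Mathlib.LinearAlgebra.FreeModule.PID
import Mathlib.Algebra.Category.ModuleCat.Basic
import Mathlib.CategoryTheory.Filtered.Basic
import Mathlib.CategoryTheory.Limits.IsLimit

/-!
# The directed system of finitely generated subcomodules (G6c, node 6c5)

`SubC c`: the finitely generated subcomodules `F` of a comodule `(V, c)` over a flat coalgebra `O`, ordered by inclusion: a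
directed set, `V` is the union (`k` Noetherian), every `F` is finite, and free when `k` is a PID and `V` free; inclusions
are morphisms of comodules.  `SubC.isColimit`: `V` is the colimit in `ModuleCat k`.
-/

set_option autoImplicit false
set_option linter.unusedSectionVars false

open TensorProduct CategoryTheory CategoryTheory.Limits

namespace Groth.Agent.ResProp.EF.K309

universe u

variable {k : Type u} [CommRing k] {O : Type u} [AddCommGroup O] [Module k O] [Coalgebra k O] [Module.Flat k O]
  {V : Type u} [AddCommGroup V] [Module k V] (c : HopfRep.Comod k O V)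

theorem range_rTensor_mono {W W' : Submodule k V} (h : W ≤ W') :
    LinearMap.range (W.subtype.rTensor O) ≤ LinearMap.range (W'.subtype.rTensor O) := by
  have e : W.subtype = W'.subtype ∘ₗ Submodule.inclusion h := rfl
  rw [e, LinearMap.rTensor_comp]
  exact LinearMap.range_comp_le_range _ _

theorem isSubcomod_sup {W W' : Submodule k V} (h : @HopfRep.IsSubcomod k O _ _ _ _ V _ _ c W)
    (h' : @HopfRep.IsSubcomod k O _ _ _ _ V _ _ c W') : @HopfRep.IsSubcomod k O _ _ _ _ V _ _ c (W ⊔ W') := by
  intro w hw
  obtain ⟨a, ha, b, hb, rfl⟩ := Submodule.mem_sup.1 hw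
  rw [map_add]
  exact add_mem (range_rTensor_mono le_sup_left (h a ha)) (range_rTensor_mono le_sup_right (h' b hb))

theorem isSubcomod_bot : @HopfRep.IsSubcomod k O _ _ _ _ V _ _ c ⊥ := by
  intro w hw
  rw [(Submodule.mem_bot k).1 hw, map_zero]
  exact zero_mem _

/-- local finiteness (the proof is that of `S3032`) -/
theorem exists_fg_subcomod [IsNoetherianRing k] (M : Submodule k V) (hM : M.FG) :
    ∃ W : Submodule k V, @HopfRep.IsSubcomod k O _ _ _ _ V _ _ c W ∧ M ≤ W ∧ W.FG := by
  classical
  obtain ⟨s, hs⟩ := hM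
  obtain ⟨N, hNfin, hN⟩ := TensorProduct.exists_finite_submodule_left_of_setFinite
    (c.coact '' (s : Set V)) (s.finite_toSet.image c.coact)
  have hNFG : N.FG := Module.Finite.iff_fg.mp hNfin
  set g : V →ₗ[k] (V ⧸ N) ⊗[k] O := (N.mkQ.rTensor O) ∘ₗ c.coact with hg
  have hex : Function.Exact (N.subtype.rTensor O) (N.mkQ.rTensor O) :=
    rTensor_exact O (LinearMap.exact_subtype_mkQ N) (Submodule.mkQ_surjective N)
  have hMW : M ≤ LinearMap.ker g := by
    rw [← hs, Submodule.span_le]
    intro x hx
    have : c.coact x ∈ LinearMap.range (N.subtype.rTensor O) := hN ⟨x, hx, rfl⟩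
    exact (hex (c.coact x)).2 this
  have hWN : LinearMap.ker g ≤ N := by
    intro w hw
    have hw' : (N.mkQ.rTensor O) (c.coact w) = 0 := hw
    have h1 : ((CoalgebraStruct.counit (R := k) (A := O)).lTensor V) (c.coact w) = w ⊗ₜ[k] (1 : k) :=
      LinearMap.congr_fun c.counit_comp w
    have h2 : (N.mkQ.rTensor k) (((CoalgebraStruct.counit (R := k) (A := O)).lTensor V) (c.coact w)) =
        ((CoalgebraStruct.counit (R := k) (A := O)).lTensor (V ⧸ N)) ((N.mkQ.rTensor O) (c.coact w)) := by
      have e1 := LinearMap.rTensor_comp_lTensor (R := k) (f := N.mkQ)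
        (g := CoalgebraStruct.counit (R := k) (A := O))
      have e2 := LinearMap.lTensor_comp_rTensor (R := k) (f := N.mkQ)
        (g := CoalgebraStruct.counit (R := k) (A := O))
      exact LinearMap.congr_fun (e1.trans e2.symm) (c.coact w)
    rw [h1, hw', map_zero, LinearMap.rTensor_tmul] at h2
    have h3 := congrArg (TensorProduct.rid k (V ⧸ N)) h2
    rw [TensorProduct.rid_tmul, one_smul, map_zero] at h3
    simpa using h3
  refine ⟨LinearMap.ker g, ?_, hMW, ?_⟩
  · intro w hw
    have hw' : (N.mkQ.rTensor O) (c.coact w) = 0 := hw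
    have hex2 : Function.Exact ((LinearMap.ker g).subtype.rTensor O) (g.rTensor O) :=
      Module.Flat.rTensor_exact O (LinearMap.exact_subtype_ker_map g)
    refine (hex2 (c.coact w)).1 ?_
    have h1 : (TensorProduct.assoc k V O O) (c.coact.rTensor O (c.coact w)) =
        (CoalgebraStruct.comul (R := k) (A := O)).lTensor V (c.coact w) :=
      LinearMap.congr_fun c.coassoc w
    have h2 : (TensorProduct.assoc k (V ⧸ N) O O) (g.rTensor O (c.coact w)) = 0 := by
      have h3 : (TensorProduct.assoc k (V ⧸ N) O O).toLinearMap ∘ₗ (N.mkQ.rTensor O).rTensor O =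
          N.mkQ.rTensor (O ⊗[k] O) ∘ₗ (TensorProduct.assoc k V O O).toLinearMap := by
        ext x y z
        simp
      have h4 : g.rTensor O (c.coact w) = (N.mkQ.rTensor O).rTensor O (c.coact.rTensor O (c.coact w)) := by
        rw [hg, LinearMap.rTensor_comp, LinearMap.comp_apply]
      have h5 := LinearMap.congr_fun h3 (c.coact.rTensor O (c.coact w))
      simp only [LinearMap.comp_apply, LinearEquiv.coe_coe] at h5
      rw [h4, h5, h1, ← LinearMap.comp_apply, LinearMap.rTensor_comp_lTensor,
        ← LinearMap.lTensor_comp_rTensor, LinearMap.comp_apply, hw', map_zero]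
    exact (TensorProduct.assoc k (V ⧸ N) O O).map_eq_zero_iff.mp h2
  · have : IsNoetherian k N := isNoetherian_of_fg_of_noetherian N hNFG
    exact Submodule.FG.of_le hNFG hWN

theorem restrCoact_inclusion {W W' : Submodule k V} (h : @HopfRep.IsSubcomod k O _ _ _ _ V _ _ c W)
    (h' : @HopfRep.IsSubcomod k O _ _ _ _ V _ _ c W') (hle : W ≤ W') (x : W) :
    ComodSub.restrCoact c W' h' (Submodule.inclusion hle x) =
      (Submodule.inclusion hle).rTensor O (ComodSub.restrCoact c W h x) := by
  refine ComodSub.rTensor_subtype_injective (A := O) W' ?_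
  have e : W'.subtype ∘ₗ Submodule.inclusion hle = W.subtype := rfl
  have h1 := ComodSub.rTensor_subtype_restrCoact c W' h' (Submodule.inclusion hle x)
  have h2 := ComodSub.rTensor_subtype_restrCoact c W h x
  have h3 : W'.subtype.rTensor O ((Submodule.inclusion hle).rTensor O (ComodSub.restrCoact c W h x)) =
      W.subtype.rTensor O (ComodSub.restrCoact c W h x) := by
    rw [← e, LinearMap.rTensor_comp, LinearMap.comp_apply]
  rw [h1, h3, h2]
  rfl

/-- the finitely generated subcomodules of `(V, c)` -/
def SubC : Type u := {F : Submodule k V // @HopfRep.IsSubcomod k O _ _ _ _ V _ _ c F ∧ F.FG}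

namespace SubC

variable {c}

instance : PartialOrder (SubC c) := Subtype.partialOrder _

instance : Nonempty (SubC c) := ⟨⟨⊥, isSubcomod_bot c, Submodule.fg_bot⟩⟩

theorem exists_ge (F G : SubC c) : ∃ H : SubC c, F.1 ≤ H.1 ∧ G.1 ≤ H.1 :=
  ⟨⟨F.1 ⊔ G.1, isSubcomod_sup c F.2.1 G.2.1, F.2.2.sup G.2.2⟩, le_sup_left (a := F.1), le_sup_right (a := F.1)⟩

instance : IsDirectedOrder (SubC c) where
  directed F G := exists_ge F G

instance : IsFiltered (SubC c) := inferInstance

theorem exists_mem [IsNoetherianRing k] (v : V) : ∃ F : SubC c, v ∈ F.1 := by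
  obtain ⟨W, h1, h2, h3⟩ := exists_fg_subcomod c (k ∙ v) (Submodule.fg_span_singleton v)
  exact ⟨⟨W, h1, h3⟩, h2 (Submodule.mem_span_singleton_self v)⟩

instance finite (F : SubC c) : Module.Finite k F.1 := Module.Finite.iff_fg.2 F.2.2

theorem free [IsDomain k] [IsPrincipalIdealRing k] [Module.Free k V] (F : SubC c) : Module.Free k F.1 :=
  inferInstance

/-- the structure of a subcomodule -/
@[reducible] noncomputable def co (F : SubC c) : HopfRep.Comod k O F.1 := ComodSub.Comod.restr c F.1 F.2.1

theorem subtype_hom (F : SubC c) :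
    @Hoch.IsComodHom k _ O _ _ _ F.1 _ _ F.co V _ _ c F.1.subtype :=
  (ComodSub.rTensor_subtype_comp_restrCoact c F.1 F.2.1).symm

theorem inclusion_hom {F G : SubC c} (h : F.1 ≤ G.1) :
    @Hoch.IsComodHom k _ O _ _ _ F.1 _ _ F.co G.1 _ _ G.co (Submodule.inclusion h) :=
  LinearMap.ext fun x => restrCoact_inclusion c F.2.1 G.2.1 h x

variable (c)

/-- the directed system of modules -/
@[simps]
def toMod : SubC c ⥤ ModuleCat.{u} k where
  obj F := ModuleCat.of k F.1
  map φ := ModuleCat.ofHom (Submodule.inclusion (leOfHom φ))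
  map_id _ := rfl
  map_comp _ _ := rfl

/-- the inclusions into `V` -/
@[simps]
def cocone : Cocone (toMod c) where
  pt := ModuleCat.of k V
  ι :=
    { app := fun F => ModuleCat.ofHom F.1.subtype
      naturality := fun _ _ _ => rfl }

variable {c}

/-- compatible maps on the `F` glue -/
theorem exists_desc [IsNoetherianRing k] {N : Type*} [AddCommGroup N] [Module k N] (g : ∀ F : SubC c, F.1 →ₗ[k] N)
    (hg : ∀ (F G : SubC c) (h : F.1 ≤ G.1) (x : F.1), g G (Submodule.inclusion h x) = g F x) :
    ∃ f : V →ₗ[k] N, ∀ (F : SubC c) (x : F.1), f x = g F x := by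
  choose s hs using fun v : V => exists_mem (c := c) v
  have key : ∀ (v : V) (F : SubC c) (hv : v ∈ F.1), g (s v) ⟨v, hs v⟩ = g F ⟨v, hv⟩ := by
    intro v F hv
    obtain ⟨G, h1, h2⟩ := exists_ge (s v) F
    rw [← hg _ _ h1, ← hg _ _ h2]
    rfl
  refine ⟨{ toFun := fun v => g (s v) ⟨v, hs v⟩, map_add' := fun v w => ?_, map_smul' := fun a v => ?_ },
    fun F x => key x F x.2⟩
  · obtain ⟨G, h1, h2⟩ := exists_ge (s v) (s w)
    rw [key v G (h1 (hs v)), key w G (h2 (hs w)), key (v + w) G (add_mem (h1 (hs v)) (h2 (hs w))), ← map_add]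
    rfl
  · rw [key (a • v) (s v) (Submodule.smul_mem _ a (hs v)), RingHom.id_apply, ← map_smul]
    rfl

variable (c)

/-- `V` is the colimit of its finitely generated subcomodules -/
noncomputable def isColimit [IsNoetherianRing k] : IsColimit (cocone c) := by
  have key : ∀ s : Cocone (toMod c), ∃ f : V →ₗ[k] s.pt, ∀ (F : SubC c) (x : F.1), f x = s.ι.app F x := fun s => by
    let g : ∀ F : SubC c, F.1 →ₗ[k] s.pt := fun F => (s.ι.app F).hom
    refine exists_desc g fun F G h x => ?_
    have h1 : ModuleCat.ofHom (Submodule.inclusion h) ≫ s.ι.app G = s.ι.app F := s.w (homOfLE (show F ≤ G from h))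
    exact congrArg (fun f : ModuleCat.of k F.1 ⟶ s.pt => f.hom x) h1
  exact
    { desc := fun s => ModuleCat.ofHom (key s).choose
      fac := fun s F => by
        ext x
        exact (key s).choose_spec F x
      uniq := fun s m hm => by
        ext x
        obtain ⟨F, hF⟩ := exists_mem (c := c) x
        exact (congr(($(hm F)) ⟨x, hF⟩)).trans ((key s).choose_spec F ⟨x, hF⟩).symm }

end SubC

end Groth.Agent.ResProp.EF.K309
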