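import Groth.Agent.ResProp.EF.K309.SubT
import Mathlib.CategoryTheory.Limits.Preserves.Basic

/-!
# `X ⊗ V = colim X ⊗ F` in `ModuleCat A`, and in every category over it (G6c, [DIR])

`modT`, `coconeT`, `isColimitT`: the directed system `F ↦ X ⊗[k] F` of `A`-modules and its colimit `X ⊗[k] V`.
`isColimitOver`: if `us : CE ⥤ ModuleCat A` reflects isomorphisms and preserves colimits (of this shape, which exist in
`CE`), then a cocone in `CE` over it is a colimit.
-/

set_option autoImplicit false
set_option linter.unusedSectionVars false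
set_option linter.style.haveILetI false

open TensorProduct CategoryTheory CategoryTheory.Limits

namespace Groth.Agent.ResProp.EF.K309

universe u v w

variable {k : Type u} [CommRing k] [IsNoetherianRing k] {O : Type u} [AddCommGroup O] [Module k O] [Coalgebra k O]
  [Module.Flat k O] {V : Type u} [AddCommGroup V] [Module k V] (c : HopfRep.Comod k O V)

namespace SubC

variable (A : Type u) [CommRing A] [Algebra k A] (X : Type u) [AddCommGroup X] [Module k X] [Module A X]
  [IsScalarTower k A X]

/-- `X ⊗ f` -/
abbrev mT {P Q : Type u} [AddCommGroup P] [Module k P] [AddCommGroup Q] [Module k Q] (f : P →ₗ[k] Q) :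
    X ⊗[k] P →ₗ[A] X ⊗[k] Q :=
  TensorProduct.AlgebraTensorModule.map (LinearMap.id : X →ₗ[A] X) f

theorem mT_tmul {P Q : Type u} [AddCommGroup P] [Module k P] [AddCommGroup Q] [Module k Q] (f : P →ₗ[k] Q) (x : X) (p : P) :
    mT A X f (x ⊗ₜ[k] p) = x ⊗ₜ[k] f p := rfl

/-- the system `F ↦ X ⊗ F` -/
@[simps]
noncomputable def modT : SubC c ⥤ ModuleCat.{u} A where
  obj F := ModuleCat.of A (X ⊗[k] F.1)
  map φ := ModuleCat.ofHom (mT A X (Submodule.inclusion (leOfHom φ)))
  map_id F := by
    apply ModuleCat.hom_ext
    change mT A X (Submodule.inclusion (leOfHom (𝟙 F))) = LinearMap.id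
    exact TensorProduct.AlgebraTensorModule.ext fun x f => rfl
  map_comp {F G H} φ ψ := by
    apply ModuleCat.hom_ext
    change mT A X (Submodule.inclusion (leOfHom (φ ≫ ψ))) =
      mT A X (Submodule.inclusion (leOfHom ψ)) ∘ₗ mT A X (Submodule.inclusion (leOfHom φ))
    exact TensorProduct.AlgebraTensorModule.ext fun x f => rfl

/-- the cocone with point `X ⊗ V` -/
@[simps]
noncomputable def coconeT : Cocone (modT c A X) where
  pt := ModuleCat.of A (X ⊗[k] V)
  ι :=
    { app := fun F => ModuleCat.ofHom (mT A X F.1.subtype)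
      naturality := fun F G φ => by
        apply ModuleCat.hom_ext
        change mT A X G.1.subtype ∘ₗ mT A X (Submodule.inclusion (leOfHom φ)) = mT A X F.1.subtype
        exact TensorProduct.AlgebraTensorModule.ext fun x f => rfl }

/-- **`X ⊗ V` is the colimit of the `X ⊗ F`** -/
noncomputable def isColimitT : IsColimit (coconeT c A X) := by
  have key : ∀ s : Cocone (modT c A X), ∃ m : (coconeT c A X).pt ⟶ s.pt, ∀ F, (coconeT c A X).ι.app F ≫ m = s.ι.app F := by
    intro s
    letI : Module k s.pt := Module.compHom s.pt (algebraMap k A)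
    haveI : IsScalarTower k A s.pt := ⟨fun r a x => by
      rw [Algebra.smul_def, mul_smul]
      rfl⟩
    let g : ∀ F : SubC c, X ⊗[k] F.1 →ₗ[A] s.pt := fun F => (s.ι.app F).hom
    obtain ⟨g', hg'⟩ := exists_descT g (fun F G h x f => by
      have h1 : ModuleCat.ofHom (mT A X (Submodule.inclusion h)) ≫ s.ι.app G = s.ι.app F :=
        s.w (homOfLE (show F ≤ G from h))
      exact congrArg (fun f' : ModuleCat.of A (X ⊗[k] F.1) ⟶ s.pt => f'.hom (x ⊗ₜ[k] f)) h1)
    refine ⟨ModuleCat.ofHom g', fun F => ?_⟩
    apply ModuleCat.hom_ext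
    refine LinearMap.ext fun t => ?_
    change g' (mT A X F.1.subtype t) = g F t
    induction t using TensorProduct.induction_on with
    | zero => rw [map_zero, map_zero, map_zero]
    | add s t hs ht => rw [map_add, map_add, hs, ht, map_add]
    | tmul x f => exact hg' F x f
  exact
    { desc := fun s => (key s).choose
      fac := fun s => (key s).choose_spec
      uniq := fun s m hm => by
        letI : Module k s.pt := Module.compHom s.pt (algebraMap k A)
        haveI : IsScalarTower k A s.pt := ⟨fun r a x => by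
          rw [Algebra.smul_def, mul_smul]
          rfl⟩
        have h1 := (key s).choose_spec
        apply ModuleCat.hom_ext
        let m1 : X ⊗[k] V →ₗ[A] s.pt := m.hom
        let m2 : X ⊗[k] V →ₗ[A] s.pt := (key s).choose.hom
        refine extT (c := c) (g := m1) (g' := m2) fun F x f => ?_
        have h2 : ModuleCat.ofHom (mT A X F.1.subtype) ≫ m = ModuleCat.ofHom (mT A X F.1.subtype) ≫ (key s).choose :=
          (hm F).trans (h1 F).symm
        exact congrArg (fun f' : ModuleCat.of A (X ⊗[k] F.1) ⟶ s.pt => f'.hom (x ⊗ₜ[k] f)) h2 }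

variable {c A X}

/-- a cocone in a category over `ModuleCat A` -/
noncomputable def isColimitOver {CE : Type w} [Category.{v} CE] (us : CE ⥤ ModuleCat.{u} A) [us.ReflectsIsomorphisms]
    [HasColimitsOfShape (SubC c) CE] [PreservesColimitsOfShape (SubC c) us] {W : SubC c ⥤ CE} (l : Cocone W)
    (e : W ⋙ us ≅ modT c A X) (eo : us.obj l.pt ≅ ModuleCat.of A (X ⊗[k] V))
    (he : ∀ F : SubC c, us.map (l.ι.app F) ≫ eo.hom = e.hom.app F ≫ ModuleCat.ofHom (mT A X F.1.subtype)) :
    IsColimit l := by
  have h1 : IsColimit ((Cocone.precompose e.hom).obj (coconeT c A X)) :=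
    (IsColimit.precomposeHomEquiv e (coconeT c A X)).symm (isColimitT c A X)
  have h2 : IsColimit (us.mapCocone l) :=
    IsColimit.ofIsoColimit h1 (Cocone.ext eo fun F => he F).symm
  haveI : ReflectsColimit W us := reflectsColimit_of_reflectsIsomorphisms W us
  exact isColimitOfReflects us h2

end SubC

end Groth.Agent.ResProp.EF.K309
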