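import Groth.Agent.ResProp.EF.K309.SubC
import Mathlib.Algebra.Category.ModuleCat.Colimits
import Mathlib.LinearAlgebra.TensorProduct.Tower

/-!
# `X ⊗ V` is the colimit of the `X ⊗ F`, `F` the finitely generated subcomodules of `V` (G6c, [DIR], module half)
-/

set_option autoImplicit false
set_option linter.unusedSectionVars false

open TensorProduct CategoryTheory CategoryTheory.Limits

namespace Groth.Agent.ResProp.EF.K309

universe u w w'

variable {k : Type u} [CommRing k] [IsNoetherianRing k] {O : Type u} [AddCommGroup O] [Module k O] [Coalgebra k O]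
  [Module.Flat k O] {V : Type u} [AddCommGroup V] [Module k V] {c : HopfRep.Comod k O V}

namespace SubC

variable {A : Type*} [CommRing A] [Algebra k A] {X : Type*} [AddCommGroup X] [Module k X] [Module A X]
  [IsScalarTower k A X] {Y : Type*} [AddCommGroup Y] [Module k Y] [Module A Y] [IsScalarTower k A Y]

/-- compatible `A`-linear maps on the `X ⊗ F` glue to `X ⊗ V` -/
theorem exists_descT (g : ∀ F : SubC c, X ⊗[k] F.1 →ₗ[A] Y)
    (hg : ∀ (F G : SubC c) (h : F.1 ≤ G.1) (x : X) (f : F.1), g G (x ⊗ₜ[k] Submodule.inclusion h f) = g F (x ⊗ₜ[k] f)) :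
    ∃ g' : X ⊗[k] V →ₗ[A] Y, ∀ (F : SubC c) (x : X) (f : F.1), g' (x ⊗ₜ[k] (f : V)) = g F (x ⊗ₜ[k] f) := by
  choose h hh using fun x : X => exists_desc (c := c)
    (fun F : SubC c => ((g F).restrictScalars k) ∘ₗ (TensorProduct.mk k X F.1 x)) (fun F G hle f => hg F G hle x f)
  have key : ∀ (x : X) (v : V) (F : SubC c) (hv : v ∈ F.1), h x v = g F (x ⊗ₜ[k] ⟨v, hv⟩) := fun x v F hv =>
    hh x F ⟨v, hv⟩
  let b : X →ₗ[A] V →ₗ[k] Y :=
    { toFun := h
      map_add' := fun x y => by
        ext v
        obtain ⟨F, hv⟩ := exists_mem (c := c) v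
        rw [LinearMap.add_apply, key x v F hv, key y v F hv, key (x + y) v F hv, TensorProduct.add_tmul, map_add]
      map_smul' := fun a x => by
        ext v
        obtain ⟨F, hv⟩ := exists_mem (c := c) v
        rw [RingHom.id_apply, LinearMap.smul_apply, key x v F hv, key (a • x) v F hv, ← map_smul]
        rfl }
  refine ⟨TensorProduct.AlgebraTensorModule.lift b, fun F x f => ?_⟩
  rw [TensorProduct.AlgebraTensorModule.lift_tmul]
  exact key x f F f.2

theorem extT {g g' : X ⊗[k] V →ₗ[A] Y} (h : ∀ (F : SubC c) (x : X) (f : F.1), g (x ⊗ₜ[k] (f : V)) = g' (x ⊗ₜ[k] (f : V))) :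
    g = g' := by
  refine LinearMap.ext fun t => ?_
  induction t using TensorProduct.induction_on with
  | zero => rw [map_zero, map_zero]
  | add s t hs ht => rw [map_add, map_add, hs, ht]
  | tmul x v =>
    obtain ⟨F, hv⟩ := exists_mem (c := c) v
    exact h F x ⟨v, hv⟩

end SubC

end Groth.Agent.ResProp.EF.K309
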