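import Groth.Agent.ResProp.EF.K742.TM
import Mathlib.RingTheory.Flat.Stability
import Mathlib.RingTheory.Finiteness.Basic
import Mathlib.RingTheory.TensorProduct.Finite

/-!
# `TM κ M W` is flat (G6c, (I4)) and finite
-/

set_option autoImplicit false

universe u

open TensorProduct

namespace Groth.Agent.ResProp.EF.K309

section aux

variable (k R M W : Type u) [CommRing k] [CommRing R] [Algebra k R] [AddCommGroup M] [Module k M] [Module R M]
  [IsScalarTower k R M] [AddCommGroup W] [Module k W]

theorem flat_aux [Module.Flat R M] [Module.Flat k W] : Module.Flat R (M ⊗[k] W) :=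
  Module.Flat.of_linearEquiv (TensorProduct.AlgebraTensorModule.cancelBaseChange k R R M W).symm

theorem finite_aux [Module.Finite R M] [Module.Finite k W] : Module.Finite R (M ⊗[k] W) :=
  Module.Finite.equiv (TensorProduct.AlgebraTensorModule.cancelBaseChange k R R M W)

end aux

variable {k R : Type u} [CommRing k] [CommRing R] (κ : k →+* R)
  (M : Type u) [AddCommGroup M] [Module R M] (W : Type u) [AddCommGroup W] [Module k W]

/-- `M` flat over `R` and `W` flat over `k` ⟹ `M ⊗_k W` flat over `R` -/
theorem flat_TM [Module.Flat R M] [Module.Flat k W] : Module.Flat R (K742.TM κ M W) :=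
  letI := κ.toAlgebra
  letI : Module k M := Module.compHom M κ
  haveI : IsScalarTower k R M := ⟨fun a b n => mul_smul (κ a) b n⟩
  flat_aux k R M W

theorem finite_TM [Module.Finite R M] [Module.Finite k W] : Module.Finite R (K742.TM κ M W) :=
  letI := κ.toAlgebra
  letI : Module k M := Module.compHom M κ
  haveI : IsScalarTower k R M := ⟨fun a b n => mul_smul (κ a) b n⟩
  finite_aux k R M W

end Groth.Agent.ResProp.EF.K309
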