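import Groth.Agent.ResProp.EF.K309.TMFlat
import Groth.Agent.ResProp.EF.K742.GO

/-!
# (I4) of G6c: `tensC s W` and `GO s O` preserve flatness on the chart
-/

set_option autoImplicit false

universe u

open CategoryTheory Opposite EF56 Groth.Agent.ResProp.EF.K742

namespace Groth.Agent.ResProp.EF.K309

variable {k : Type u} [CommRing k] {A : NFᵒᵖ ⥤ CommRingCat.{u}} (s : KS k A)

theorem flat_tensC (W : Type u) [AddCommGroup W] [Module k W] [Module.Flat k W] (N : Comod A)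
    (h : Module.Flat (A.obj (op ⟨0⟩)) ((vst A).obj N)) :
    Module.Flat (A.obj (op ⟨0⟩)) ((vst A).obj ((tensC s W).obj N)) :=
  haveI : Module.Flat (A.obj (op ⟨0⟩)) (N.obj.obj (op ⟨0⟩)) := h
  flat_TM (s.κ (op ⟨0⟩)) (N.obj.obj (op ⟨0⟩)) W

theorem finite_tensC (W : Type u) [AddCommGroup W] [Module k W] [Module.Finite k W] (N : Comod A)
    (h : Module.Finite (A.obj (op ⟨0⟩)) ((vst A).obj N)) :
    Module.Finite (A.obj (op ⟨0⟩)) ((vst A).obj ((tensC s W).obj N)) :=
  haveI : Module.Finite (A.obj (op ⟨0⟩)) (N.obj.obj (op ⟨0⟩)) := h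
  finite_TM (s.κ (op ⟨0⟩)) (N.obj.obj (op ⟨0⟩)) W

variable (O : Type u) [AddCommGroup O] [Module k O] [Coalgebra k O]

theorem flat_GO [Module.Flat k O] (N : Comod A) (h : Module.Flat (A.obj (op ⟨0⟩)) ((vst A).obj N)) :
    Module.Flat (A.obj (op ⟨0⟩)) ((vst A).obj ((GO s O).obj N)) := flat_tensC s O N h

end Groth.Agent.ResProp.EF.K309
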